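import Cfsg.Agent.ODD.PX.D4
import Cfsg.Agent.ODD.Cov.Fam

/-!
# ODD, odd `q`: the rows `g2`, `f4`, `e7`, `e8`, `d4` of `BoxO` (helper4)
-/

set_option autoImplicit false

namespace Cfsg.Agent.ODD.PX

open Cfsg Cfsg.Agent.ODD.Cv

theorem rowO_f4 (hM : AH.Main) : RowO (ChevO Lie.chevF4) := plain_f4.rowO (rowS_f4 hM)

theorem rowO_e7 (hM : AH.Main) : RowO (ChevO Lie.chevE7) := plain_e7.rowO (rowS_e7 hM)

theorem rowO_e8 (hM : AH.Main) : RowO (ChevO Lie.chevE8) := plain_e8.rowO (rowS_e8 hM)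

theorem rowO_d4 (hM : AH.Main) : RowO TwD4O := plain_d4.rowO (rowS_d4 hM)

theorem rowO_g2' (hM : AH.Main) (h : RowO G23) : RowO (ChevO Lie.chevG2) := rowO_g2 (rowS_g2 hM) h

end Cfsg.Agent.ODD.PX
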