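import Cfsg.Agent.ODD.Cov.Lift
import Cfsg.Agent.ODD.Cov.Basic
import Cfsg.Agent.Tits.C3Roots
import Cfsg.Agent.ChevalleyStructure.CoxeterWordCheck

/-!
# ODD, odd `q`: the Chevalley groups `G₂`, `F₄`, `E₇`, `E₈` (helper4)

* `conj_of_act`: the action of `n i` on the torus from the action of the torus on the root group;
* `HasCor p M G`: a root group datum with coroot data modulo `2` whose characters with a stabiliser of odd index are
  quadratic; `HasCor.oddRat`;
* `phi`, `inS_chev`, `cor_group`: the datum of `D.group K` for every type;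
* `rowS_g2`, `rowS_f4`, `rowS_e7`, `rowS_e8`.
-/

set_option autoImplicit false
set_option linter.unusedSectionVars false
set_option maxHeartbeats 400000

namespace Cfsg.Agent.ODD.PX

open Cfsg Matrix Cfsg.Agent.ODD.Cv
open CoxeterSystem Cfsg.Agent.ChevalleyStructure.CoxeterGeom Cfsg.Agent.Tits.Roots Cfsg.Agent.Nodes.Reps
  Cfsg.Agent.Nodes.BNOf Cfsg.Agent.Nodes.Bruhat Cfsg.Agent.H684.OQ Cfsg.Agent.H310.OQ Cfsg.Agent.Nodes.RGDLib

section gen

variable {I W Y : Type} [Fintype I] [DecidableEq I] [Group W] [Finite W] [Group Y] [Finite Y]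
  {M : CoxeterMatrix I} {cs : CoxeterSystem M W} {A : I → I → ℤ} {h : IsCartan M A} {p : ℕ}
  {k : I → Type} [∀ i, Field (k i)] {T : Subgroup Y} {X : (I → ℤ) → Subgroup Y}
  {Φ : ∀ i, SpecialLinearGroup (Fin 2) (k i) →* Y}

/-- If `t` multiplies the parameter of the root group `X i` by `a`, then `n i * t * (n i)⁻¹ = t * h_i(a⁻¹)`. -/
theorem conj_of_act (S : InS p cs h T X Φ) {i : I} {t : Y} (ht : t ∈ T) {a : (k i)ˣ}
    (e : t * Φ i (uu 1) * t⁻¹ = Φ i (uu (a : k i))) : Φ i ww * t * (Φ i ww)⁻¹ = t * Φ i (dd a⁻¹) := by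
  have h1 := PS.tx_conj S.inp.rgd i ht (S.uu_mem i 1) (fun h2 => one_ne_zero (S.inj i 1 h2)) S.inp.comm
  have h2 := S.tx_eq i 1
  rw [inv_one, Units.val_one, map_one, map_one] at h2
  have h3 := S.tx_eq i a⁻¹
  rw [inv_inv] at h3
  rw [e, h2, h3, one_mul] at h1
  rw [S.inp.comm _ ht _ (S.d i _), h1, inv_mul_cancel_right]

end gen

/-- a root group datum with coroot data modulo `2` whose characters with a stabiliser of odd index are quadratic -/
def HasCor (p : ℕ) {I : Type} [Fintype I] [DecidableEq I] (M : CoxeterMatrix I) (G : Type) [Group G] [Finite G] : Prop :=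
  ∃ (_ : Finite M.Group) (A A' : I → I → ℤ) (h : IsCartan M A) (h' : IsCartan M A') (T : Subgroup G) (n g : I → G)
    (X : (I → ℤ) → Subgroup G) (S : In p M.toCoxeterSystem h T n X), PS.Cor S.rgd h' 2 g ∧
      ∀ lam : ↥T →* ℂˣ, Odd (PS.Wst S.rgd lam).index → ∀ t, lam t ^ 2 = 1

theorem HasCor.oddRat (hM : AH.Main) {p : ℕ} (hp : p.Prime) (hp2 : p ≠ 2) {I : Type} [Fintype I] [DecidableEq I]
    {M : CoxeterMatrix I} {G : Type} [Group G] [Finite G] (h : HasCor p M G) : OddRat G := by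
  obtain ⟨_, A, A', h, h', T, n, g, X, S, C, hq⟩ := h
  exact PS.oddRat_of_cor S.rgd hM hp hp2 S.top S.nofix C hq

/-- `-1 ∈ W` and exact coroot data -/
theorem hasCor_of_neg {p : ℕ} {I : Type} [Fintype I] [DecidableEq I] {M : CoxeterMatrix I} [hW : Finite M.Group]
    {G : Type} [Group G] [Finite G] {A A' : I → I → ℤ} {h : IsCartan M A} {h' : IsCartan M A'} {T : Subgroup G}
    {n g : I → G} {X : (I → ℤ) → Subgroup G} (S : In p M.toCoxeterSystem h T n X) (C : PS.Cor S.rgd h' 0 g)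
    (hgen : T ≤ Subgroup.closure (Set.range g)) {w : M.Group}
    (hw : ∀ i, rep M.toCoxeterSystem h' w (sr i) = -sr i) : HasCor p M G := by
  have h1 : ∀ y, rep M.toCoxeterSystem h' w y = -y := fun y =>
    DFunLike.congr_fun (PS.ext_sr' (x := (rep M.toCoxeterSystem h' w).toAddMonoidHom) (y := -AddMonoidHom.id _) hw) y
  refine ⟨hW, A, A', h, h', T, n, g, X, S, C.mono (dvd_zero 2), fun lam hl => C.pow_of_gen hgen fun i => ?_⟩
  refine C.sq_of_neg (fun t => pow_zero _) (PS.mem_of_center hl (fun x => ?_) ?_) (hw i)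
  · refine rep_injective M.toCoxeterSystem h' (LinearMap.ext fun y => ?_)
    rw [rep_mul_apply, rep_mul_apply, h1, h1, map_neg]
  · refine rep_injective M.toCoxeterSystem h' (LinearMap.ext fun y => ?_)
    rw [rep_mul_apply, h1, h1, neg_neg, map_one, Module.End.one_apply]

/-- a word which acts as `-1` -/
theorem neg_of_check {l : ℕ} {W : Type} [Group W] {M : CoxeterMatrix (Fin l)} (cs : CoxeterSystem M W)
    {A : Fin l → Fin l → ℤ} (h : IsCartan M A) (ω : List (Fin l))
    (hc : ∀ i : Fin l, ChevalleyStructure.CoxeterWordCheck.actList (ChevalleyStructure.CoxeterWordCheck.rows A)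
      (ω.map (·.val)) (ChevalleyStructure.CoxeterWordCheck.unit l i) =
        (ChevalleyStructure.CoxeterWordCheck.unit l i).map Neg.neg) (i : Fin l) :
    rep cs h (cs.wordProd ω) (sr i) = -sr i := by
  have h1 := hc i
  rw [← ChevalleyStructure.CoxeterWordCheck.ofFn_single, ChevalleyStructure.CoxeterWordCheck.actList_ofFn cs h,
    List.map_ofFn] at h1
  exact List.ofFn_injective h1

section chev

open Cfsg.Lie Cfsg.Agent.ChevalleyStructure Cfsg.Agent.ChevalleyStructure.Elts
  Cfsg.Agent.ChevalleyStructure.RootVec Cfsg.Agent.ChevalleyStructure.RootVecTab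
  Cfsg.Agent.ChevalleyStructure.CoxeterGeomTypes Cfsg.Agent.Nodes.RGDChev

variable {D : ChevalleyDatum} {l : ℕ} {M : CoxeterMatrix (Fin l)} (hp : IsType D l M) (K : Type) [Field K]

/-- the homomorphism `SL₂(K) → D.group K` of the node `i` -/
noncomputable def phi (i : Fin l) : SpecialLinearGroup (Fin 2) K →* ↥(D.group K) := (exists_phiG (K := K) hp i).choose

theorem phi_uu (i : Fin l) (t : K) : (phi hp K i (uu t) : GL D.Idx K) = xG hp.inList (D.simple i) t :=
  (exists_phiG (K := K) hp i).choose_spec.1 t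

theorem phi_ww (i : Fin l) : phi hp K i ww = ⟨nn hp K i, nn_mem_group hp i⟩ :=
  (exists_phiG (K := K) hp i).choose_spec.2.1.symm

theorem phi_dd (i : Fin l) (c : Kˣ) : (phi hp K i (dd c) : GL D.Idx K) = hG hp.inList (D.simple i) (c : K) :=
  (exists_phiG (K := K) hp i).choose_spec.2.2 c

/-- **the datum of `D.group K`** -/
theorem inS_chev [Finite K] (p : ℕ) [CharP K p] (h2 : (2 : K) ≠ 0) (hA : ∀ j, ∃ i, ¬ Even (cartanOf D l i j))
    {W : Type} [Group W] [Finite W] (cs : CoxeterSystem M W) :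
    InS p cs hp.isCartan ((D.diagonalSubgroup K).subgroupOf (D.group K))
      (fun x => (XV D l K x).subgroupOf (D.group K)) (k := fun _ => K) (phi hp K) := by
  have hpp : p.Prime := CharP.char_is_prime K p
  have : Fact p.Prime := ⟨hpp⟩
  have hp2 : p ≠ 2 := by
    rintro rfl
    exact h2 (by exact_mod_cast CharP.cast_eq_zero K 2)
  have hn : (fun i => phi hp K i ww) = fun i => (⟨nn hp K i, nn_mem_group hp i⟩ : ↥(D.group K)) :=
    funext (phi_ww hp K)
  refine ⟨?_, G1_eq_top hp cs, fun i c => ?_, fun i g => ?_, fun i t ht => ?_⟩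
  · rw [hn]
    refine in_of_sq (rgd (K := K) hp cs p) hpp hp2 (G1_eq_top hp _) ?_ (sq_group hp _) hA (node_group hp)
    intro a ha b hb
    exact Subtype.ext (diag_comm hp.inList ha hb)
  · rw [Subgroup.mem_subgroupOf, phi_dd]
    exact hG_mem_diagonal hp.inList (NPerm.simple_lt hp.inList (lt_rank hp i)) c.ne_zero
  · rw [Subgroup.mem_subgroupOf, XV_sr hp, mem_rootSubgroup_iff hp.inList]
    refine exists_congr fun t => ?_
    rw [← phi_uu, ← Subtype.ext_iff]
  · refine (xG_eq_one_iff hp.inList (NPerm.simple_lt hp.inList (lt_rank hp i)) t).1 ?_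
    rw [← phi_uu hp, ht]
    rfl

/-- the action of the torus on the simple root groups -/
theorem phi_act (i j : Fin l) (c : Kˣ) (t : K) :
    phi hp K j (dd c) * phi hp K i (uu t) * (phi hp K j (dd c))⁻¹ =
      phi hp K i (uu (((c ^ cartanOf D l j i : Kˣ) : K) * t)) := by
  apply Subtype.ext
  rw [Subgroup.coe_mul, Subgroup.coe_mul, Subgroup.coe_inv, phi_dd, phi_uu, phi_uu,
    BruhatSplit.hG_simple_conj hp.inList (lt_rank hp j) (NPerm.simple_lt hp.inList (lt_rank hp i)) c.ne_zero,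
    Units.val_zpow_eq_zpow_val]
  rfl

variable {K}

/-- the action of `n i` on the coroots -/
theorem phi_conj [Finite K] {p : ℕ} {W : Type} [Group W] [Finite W] {cs : CoxeterSystem M W}
    (S : InS p cs hp.isCartan ((D.diagonalSubgroup K).subgroupOf (D.group K))
      (fun x => (XV D l K x).subgroupOf (D.group K)) (k := fun _ => K) (phi hp K)) (i j : Fin l) (c : Kˣ) :
    phi hp K i ww * phi hp K j (dd c) * (phi hp K i ww)⁻¹ =
      phi hp K j (dd c) * phi hp K i (dd c) ^ (-cartanOf D l j i) := by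
  have h1 := phi_act hp K i j c 1
  rw [mul_one] at h1
  rw [conj_of_act S (S.d j c) h1, ← map_zpow, ← map_zpow, _root_.zpow_neg]

/-- **exact coroot data** -/
theorem cor_group [Finite K] {p : ℕ} {W : Type} [Group W] [Finite W] {cs : CoxeterSystem M W}
    (S : InS p cs hp.isCartan ((D.diagonalSubgroup K).subgroupOf (D.group K))
      (fun x => (XV D l K x).subgroupOf (D.group K)) (k := fun _ => K) (phi hp K))
    {γ : Kˣ} (hγ : ∀ c, c ∈ Subgroup.zpowers γ) :
    PS.Cor S.inp.rgd (Tits.C3Roots.cartan_transpose hp.isCartan) 0 fun i => phi hp K i (dd γ) :=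
  S.cor (ω := fun _ => γ) (fun _ => hγ) _ fun i j => ⟨_, phi_conj hp S i j γ, by simp⟩

include hp in
theorem hasCor_group [Finite K] (p : ℕ) [CharP K p] (h2 : (2 : K) ≠ 0) (hA : ∀ j, ∃ i, ¬ Even (cartanOf D l i j))
    (ω : List (Fin l))
    (hc : ∀ i : Fin l, CoxeterWordCheck.actList (CoxeterWordCheck.rows fun i j => cartanOf D l j i)
      (ω.map (·.val)) (CoxeterWordCheck.unit l i) = (CoxeterWordCheck.unit l i).map Neg.neg) :
    HasCor p M ↥(D.group K) := by
  have hW : Finite M.Group := finite_W hp M.toCoxeterSystem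
  have S := inS_chev hp K p h2 hA M.toCoxeterSystem
  obtain ⟨γ, hγ⟩ := IsCyclic.exists_generator (α := Kˣ)
  exact hasCor_of_neg S.inp (cor_group hp S hγ) (S.tor_gen (ω := fun _ => γ) fun _ => hγ)
    (neg_of_check _ _ ω hc)

/-- a power of the Coxeter element -/
def cox (l m : ℕ) : List (Fin l) := (List.replicate m (List.finRange l)).flatten

theorem hasCor_G2 (K : Type) [Field K] [Finite K] (p : ℕ) [CharP K p] (h2 : (2 : K) ≠ 0) :
    HasCor p CoxeterMatrix.G₂ ↥(chevG2.group K) :=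
  hasCor_group (by simp [IsType, typeList]) p h2 (by decide +kernel) (cox 2 3) (by decide +kernel)

theorem hasCor_F4 (K : Type) [Field K] [Finite K] (p : ℕ) [CharP K p] (h2 : (2 : K) ≠ 0) :
    HasCor p CoxeterMatrix.F₄ ↥(chevF4.group K) :=
  hasCor_group (by simp [IsType, typeList]) p h2 (by decide +kernel) (cox 4 6) (by decide +kernel)

theorem hasCor_E7 (K : Type) [Field K] [Finite K] (p : ℕ) [CharP K p] (h2 : (2 : K) ≠ 0) :
    HasCor p CoxeterMatrix.E₇ ↥(chevE7.group K) :=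
  hasCor_group (by simp [IsType, typeList]) p h2 (by decide +kernel) (cox 7 9) (by decide +kernel)

theorem hasCor_E8 (K : Type) [Field K] [Finite K] (p : ℕ) [CharP K p] (h2 : (2 : K) ≠ 0) :
    HasCor p CoxeterMatrix.E₈ ↥(chevE8.group K) :=
  hasCor_group (by simp [IsType, typeList]) p h2 (by decide +kernel) (cox 8 15) (by decide +kernel)

end chev

/-- the characteristic of a field of odd order -/
theorem exists_char (F : Type) [Field F] [Fintype F] (hF : Odd (Fintype.card F)) :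
    ∃ (p : ℕ) (_ : CharP F p), p.Prime ∧ p ≠ 2 ∧ (2 : F) ≠ 0 := by
  obtain ⟨p, hp⟩ := CharP.exists F
  have hpp : p.Prime := CharP.char_is_prime F p
  have hp2 : p ≠ 2 := by
    rintro rfl
    have : Fact (Nat.Prime 2) := ⟨Nat.prime_two⟩
    obtain ⟨m, -, hm⟩ := FiniteField.card F 2
    rw [hm] at hF
    exact Nat.not_odd_iff_even.2 (Nat.even_pow.2 ⟨even_two, m.pos.ne'⟩) hF
  refine ⟨p, hp, hpp, hp2, fun h => hp2 ?_⟩
  have h1 : p ∣ 2 := (CharP.cast_eq_zero_iff F p 2).1 (by exact_mod_cast h)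
  exact (Nat.prime_dvd_prime_iff_eq hpp Nat.prime_two).1 h1

theorem rowS_g2 (hM : AH.Main) : RowS (ChevO Lie.chevG2) := by
  rintro S _ _ _ ⟨F, _, _, hF, ⟨e⟩⟩
  obtain ⟨p, _, hp, hp2, h2⟩ := exists_char F hF
  exact oddRat_congr e ((hasCor_G2 F p h2).oddRat hM hp hp2)

theorem rowS_f4 (hM : AH.Main) : RowS (ChevO Lie.chevF4) := by
  rintro S _ _ _ ⟨F, _, _, hF, ⟨e⟩⟩
  obtain ⟨p, _, hp, hp2, h2⟩ := exists_char F hF
  exact oddRat_congr e ((hasCor_F4 F p h2).oddRat hM hp hp2)

theorem rowS_e7 (hM : AH.Main) : RowS (ChevO Lie.chevE7) := by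
  rintro S _ _ _ ⟨F, _, _, hF, ⟨e⟩⟩
  obtain ⟨p, _, hp, hp2, h2⟩ := exists_char F hF
  exact oddRat_congr e ((hasCor_E7 F p h2).oddRat hM hp hp2)

theorem rowS_e8 (hM : AH.Main) : RowS (ChevO Lie.chevE8) := by
  rintro S _ _ _ ⟨F, _, _, hF, ⟨e⟩⟩
  obtain ⟨p, _, hp, hp2, h2⟩ := exists_char F hF
  exact oddRat_congr e ((hasCor_E8 F p h2).oddRat hM hp hp2)

end Cfsg.Agent.ODD.PX
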