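import Cfsg.Agent.ODD.PX.Fold
import Cfsg.Agent.H310.OQ.TwD4

/-!
# ODD, odd `q`: the groups `³D₄(q)` (helper4)

`hasCor_twD4`, `rowS_d4`.
-/

set_option autoImplicit false
set_option linter.unusedSectionVars false
set_option maxHeartbeats 400000

namespace Cfsg.Agent.ODD.PX

open Cfsg Matrix Cfsg.Agent.ODD.Cv
open CoxeterSystem Cfsg.Agent.ChevalleyStructure.CoxeterGeom Cfsg.Agent.Tits.Roots Cfsg.Agent.Nodes.Reps
  Cfsg.Agent.Nodes.BNOf Cfsg.Agent.Nodes.Bruhat Cfsg.Agent.H684.OQ Cfsg.Agent.H310.OQ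

/-- the cube of the Coxeter element inverts both coroots -/
theorem cube_inv {Y : Type*} [Group Y] {x y a b : Y} {e : ℕ} (hab : Commute a b) (h1 : x * a * x⁻¹ = a⁻¹)
    (h2 : x * b * x⁻¹ = b * a) (h3 : y * a * y⁻¹ = a * b ^ e) (h4 : y * b * y⁻¹ = b⁻¹) (h5 : a ^ e = a ^ 3) :
    (x * y) ^ 3 * a * ((x * y) ^ 3)⁻¹ = a⁻¹ ∧ (x * y) ^ 3 * b * ((x * y) ^ 3)⁻¹ = b⁻¹ := by
  let u : Y →* Y := (MulAut.conj (x * y)).toMonoidHom
  have hu : ∀ g, u g = x * (y * g * y⁻¹) * x⁻¹ := fun g => by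
    show x * y * g * (x * y)⁻¹ = _
    group
  have hu3 : ∀ g, (x * y) ^ 3 * g * ((x * y) ^ 3)⁻¹ = u (u (u g)) := fun g => by
    show _ = x * y * (x * y * (x * y * g * (x * y)⁻¹) * (x * y)⁻¹) * (x * y)⁻¹
    rw [pow_three]
    group
  obtain ⟨c, hc⟩ : ∃ c, c = b ^ e := ⟨_, rfl⟩
  have hac : Commute a c := hc ▸ hab.pow_right e
  have hbc : Commute b c := hc ▸ (Commute.refl b).pow_right e
  have hx : ∀ g g' : Y, x * (g * g') * x⁻¹ = x * g * x⁻¹ * (x * g' * x⁻¹) := fun g g' => by group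
  have hxc : x * c * x⁻¹ = c * a ^ 3 := by
    rw [hc, ← conj_pow, h2, hab.symm.mul_pow, h5]
  have ub : u b = a⁻¹ * b⁻¹ := by
    rw [hu, h4, ← _root_.mul_inv_rev, ← h2]
    group
  have ua : u a = a ^ 2 * c := by
    rw [hu, h3, ← hc, hx, h1, hxc, ← (hac.pow_left 3).eq]
    group
  have uc : u c = (a ^ 3)⁻¹ * c⁻¹ := by
    rw [hc, map_pow, ub, hab.inv_inv.mul_pow, inv_pow, inv_pow, h5]
  have ua2 : u (u a) = a * c := by
    rw [ua, map_mul, map_pow, ua, uc, (hac.pow_left 2).mul_pow, mul_assoc, ← mul_assoc (c ^ 2),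
      ← ((hac.pow_pow 3 2).inv_left).eq]
    group
  have ua3 : u (u (u a)) = a⁻¹ := by
    rw [ua2, map_mul, ua, uc, mul_assoc, ← mul_assoc c, ← ((hac.pow_left 3).inv_left).eq]
    group
  refine ⟨by rw [hu3, ua3], ?_⟩
  have ub2 : u (u b) = a⁻¹ * c⁻¹ * b := by
    rw [ub, map_mul, map_inv, map_inv, ua, ub, _root_.mul_inv_rev, _root_.mul_inv_rev, inv_inv, inv_inv, ← hab.eq,
      (hac.inv_inv).eq]
    group
  rw [hu3, ub2, map_mul, map_mul, map_inv, map_inv, ua, uc, ub, _root_.mul_inv_rev, _root_.mul_inv_rev, inv_inv,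
    inv_inv, mul_assoc c⁻¹, ← mul_assoc (a ^ 2)⁻¹, ((hac.pow_left 2).inv_left).eq]
  group

open Cfsg.Lie Cfsg.Agent.ChevalleyStructure
  Cfsg.Agent.Nodes.RGDChev Cfsg.Agent.Nodes.RGDFold Cfsg.Agent.Nodes.RGDTwD4 Cfsg.Agent.H310.OQ.TwD4
open Cfsg.Agent.ChevalleyStructure.TwistedU Cfsg.Agent.ChevalleyStructure.D4Comm
open Cfsg.Agent.ChevalleyStructure.D4U
open Cfsg.Agent.ChevalleyStructure.D4Fixed (sig)
open Cfsg.Agent.ChevalleyStructure.D4Cols (xU)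

variable {K : Type} [Field K] {q : ℕ} {φ : K →+* K}

theorem d4_zero [Fintype K] (hK : Fintype.card K = q ^ 3) (hφ : ∀ x, φ x = x ^ q) :
    ∃ Φ, NodeX hp K J (sig φ) (twistedD4 K q) 0 (k := RingHom.eqLocusField φ (RingHom.id K))
      (fun _ => (RingHom.eqLocusField φ (RingHom.id K)).subtype) Φ := by
  have hr := NPerm.simple_lt hp.inList (lt_rank hp 1)
  let F₀ : Subfield K := RingHom.eqLocusField φ (RingHom.id K)
  have hF : ∀ t : F₀, φ t.1 = t.1 := fun t => t.2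
  obtain ⟨Φ, hB, hu, hl⟩ := exists_blk_single hp 1 (k := F₀) F₀.subtype
  have hle := D4Fixed.twisted_le_fix hK hφ
  have hu' : ∀ t, Φ (uu t) = xU 14 (t : K) := by
    intro t
    rw [hu, s1, ex_eq]
    rfl
  refine ⟨Φ, hB, fun t => ?_, fun t => ?_, fun g => ?_, fun t ht => ?_, fun t => ?_, fun c => ?_⟩
  · rw [hu']
    exact D4Fixed.x14_mem (by rw [← hφ]; exact hF t)
  · rw [hl, n1, ex_eq]
    exact D4Fixed.x9_mem (by rw [← hφ]; exact hF t)
  · rw [R0]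
    constructor
    · rintro ⟨h1, h2⟩
      obtain ⟨t, ht, rfl⟩ := RS_14_fix h1 h2
      exact ⟨⟨t, ht⟩, by rw [hu', xU_eq]⟩
    · rintro ⟨t, rfl⟩
      rw [hu']
      refine ⟨?_, hle (D4Fixed.x14_mem (by rw [← hφ]; exact hF t))⟩
      rw [xU_eq]
      exact mem_rspan D4Comm.xG (S := {k | k ∈ [14]}) (by simp) _
  · rw [hu] at ht
    exact Subtype.ext ((Elts.xG_eq_one_iff hp.inList hr _).1 ht)
  · rw [hu]
    exact (List.prod_singleton).symm
  · rw [blk_dd hp hu hl]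
    exact (List.prod_singleton).symm

/-- the three embeddings -/
def psi3 (φ : K →+* K) : Fin 4 → (K →+* K) := ![RingHom.id K, RingHom.id K, φ, φ.comp φ]

theorem d4_one [Fintype K] (hK : Fintype.card K = q ^ 3) (hφ : ∀ x, φ x = x ^ q) :
    ∃ Φ, NodeX hp K J (sig φ) (twistedD4 K q) 1 (k := K) (psi3 φ) Φ := by
  obtain ⟨Φ₀, hB₀, hu₀', hl₀'⟩ := exists_blk_single hp 0 (k := K) (RingHom.id K)
  obtain ⟨Φ₂, hB₂, hu₂', hl₂'⟩ := exists_blk_single hp 2 (k := K) φ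
  obtain ⟨Φ₃, hB₃, hu₃', hl₃'⟩ := exists_blk_single hp 3 (k := K) (φ.comp φ)
  have hle := D4Fixed.twisted_le_fix hK hφ
  have hu₀ := hu₀'
  have hl₀ := hl₀'
  have hu₂ := hu₂'
  have hl₂ := hl₂'
  have hu₃ := hu₃'
  have hl₃ := hl₃'
  simp only [s0, n0, ex_eq] at hu₀ hl₀
  simp only [s2, n2, ex_eq] at hu₂ hl₂
  simp only [s3, n3, ex_eq] at hu₃ hl₃
  have c02 : ∀ a b, Commute (Φ₀ a) (Φ₂ b) := by
    refine commute_of Φ₀ Φ₂ (fun s t => ?_) (fun s t => ?_) (fun s t => ?_) (fun s t => ?_)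
    · rw [hu₀, hu₂]; exact D4Fixed.c_18_13 _ _
    · rw [hu₀, hl₂]; exact D4Fixed.c_18_10 _ _
    · rw [hl₀, hu₂]; exact D4Fixed.c_5_13 _ _
    · rw [hl₀, hl₂]; exact D4Fixed.c_5_10 _ _
  have c03 : ∀ a b, Commute (Φ₀ a) (Φ₃ b) := by
    refine commute_of Φ₀ Φ₃ (fun s t => ?_) (fun s t => ?_) (fun s t => ?_) (fun s t => ?_)
    · rw [hu₀, hu₃]; exact D4Fixed.c_18_12 _ _
    · rw [hu₀, hl₃]; exact D4Fixed.c_18_11 _ _
    · rw [hl₀, hu₃]; exact D4Fixed.c_5_12 _ _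
    · rw [hl₀, hl₃]; exact D4Fixed.c_5_11 _ _
  have c23 : ∀ a b, Commute (Φ₂ a) (Φ₃ b) := by
    refine commute_of Φ₂ Φ₃ (fun s t => ?_) (fun s t => ?_) (fun s t => ?_) (fun s t => ?_)
    · rw [hu₂, hu₃]; exact D4Fixed.c_13_12 _ _
    · rw [hu₂, hl₃]; exact D4Fixed.c_13_11 _ _
    · rw [hl₂, hu₃]; exact D4Fixed.c_10_12 _ _
    · rw [hl₂, hl₃]; exact D4Fixed.c_10_11 _ _
  obtain ⟨Ψ, hB', hΨ⟩ := hB₂.cons hp hB₃ c23
  have c0 : ∀ a b, Commute (Φ₀ a) (Ψ b) := by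
    intro a b
    rw [hΨ]
    exact (c02 a b).mul_right (c03 a b)
  obtain ⟨Φ, hB, hΦ⟩ := hB₀.cons hp hB' c0
  have hu : ∀ t, Φ (uu t) = D4Fixed.X φ t := by
    intro t
    rw [hΦ, hΨ, hu₀, hu₂, hu₃, ← mul_assoc]
    rfl
  have hl : ∀ t, Φ (ll t) = D4Fixed.Y φ t := by
    intro t
    rw [hΦ, hΨ, hl₀, hl₂, hl₃, ← mul_assoc]
    rfl
  refine ⟨Φ, hB, fun t => ?_, fun t => ?_, fun g => ?_, fun t ht => ?_, fun t => ?_, fun c => ?_⟩
  · rw [hu]; exact D4Fixed.X_mem hφ t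
  · rw [hl]; exact D4Fixed.Y_mem hφ t
  · rw [R1]
    constructor
    · rintro ⟨h1, h2⟩
      obtain ⟨t, rfl⟩ := RS_outer_fix h1 h2
      exact ⟨t, (hu t).symm⟩
    · rintro ⟨t, rfl⟩
      rw [hu]
      exact ⟨D4Twisted.X_mem_RS _, hle (D4Fixed.X_mem hφ t)⟩
  · rw [hu] at ht
    unfold D4Fixed.X at ht
    rw [xU_eq, xU_eq, xU_eq] at ht
    let T : ℕ → K := fun r => if r = 18 then t else if r = 13 then φ t else φ (φ t)
    have h3 := D4Pos.lprod_inj [18, 13, 12] (by decide +kernel) (t := T) (t' := fun _ => 0) (by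
      have e : lprod D4Comm.xG [18, 13, 12] T = 1 := by
        rw [lprod_cons, lprod_cons, lprod_cons, lprod_nil, mul_one, ← mul_assoc]
        exact ht
      rw [e]
      simp only [lprod_cons, lprod_nil, xG_zero, mul_one]) 18 (by simp)
    exact h3
  · rw [hΦ, hΨ, hu₀', hu₂', hu₃']
    show _ = _ * (_ * (_ * 1))
    rw [mul_one]
    rfl
  · rw [hΦ, hΨ, blk_dd hp hu₀' hl₀', blk_dd hp hu₂' hl₂', blk_dd hp hu₃' hl₃']
    show _ = _ * (_ * (_ * 1))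
    rw [mul_one]
    rfl

/-- the fields of the two nodes -/
def kk (φ : K →+* K) : Fin 2 → Type := Fin.cons ↥(RingHom.eqLocusField φ (RingHom.id K)) fun _ => K

/-- the field structures -/
@[reducible] noncomputable def kkField (φ : K →+* K) : ∀ i, Field (kk φ i) :=
  Fin.cases (inferInstanceAs (Field ↥(RingHom.eqLocusField φ (RingHom.id K)))) fun _ => inferInstanceAs (Field K)

theorem cart0 : ∀ s ∈ J 1, chevD4.cartan (1 : Fin 4) (chevD4.simple s) = -1 := by decide +kernel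

theorem cart1 : ∀ b ∈ J 1, chevD4.cartan b (chevD4.simple (1 : Fin 4)) = -1 := by decide +kernel

/-- **`³D₄(q)`** -/
theorem hasCor_twD4 [Fintype K] (hq : IsPrimePow q) (hK : Fintype.card K = q ^ 3) (p : ℕ) [CharP K p]
    (h2 : (2 : K) ≠ 0) (hqo : Odd q) : HasCor p CoxeterMatrix.G₂ ↥(twistedD4 K q) := by
  obtain ⟨φ, hφ⟩ := D4Fixed.exists_frob hq hK
  have hq2 : 2 ≤ q := hq.two_le
  have FG := foldGrp hφ (D4Fixed.twisted_le_fix hK hφ)
  have hW : Finite CoxeterMatrix.G₂.Group :=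
    Cfsg.Agent.Nodes.RGDFold.finite_W (hp := hp) CoxeterMatrix.G₂.toCoxeterSystem isCartan foldData
  obtain ⟨Φ₀, N₀⟩ := d4_zero hK hφ
  obtain ⟨Φ₁, N₁⟩ := d4_one hK hφ
  let _ := kkField φ
  have _ : ∀ i, Finite (kk φ i) :=
    Fin.cases (inferInstanceAs (Finite ↥(RingHom.eqLocusField φ (RingHom.id K)))) fun _ => inferInstanceAs (Finite K)
  let ψ : ∀ i, Fin 4 → (kk φ i →+* K) := fun i => match i with
    | 0 => fun _ => (RingHom.eqLocusField φ (RingHom.id K)).subtype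
    | 1 => psi3 φ
  let Φ : ∀ i, SpecialLinearGroup (Fin 2) (kk φ i) →* GL chevD4.Idx K := fun i => match i with
    | 0 => Φ₀
    | 1 => Φ₁
  have N : ∀ i, NodeX hp K J (sig φ) (twistedD4 K q) i (ψ i) (Φ i) := fun i => match i with
    | 0 => N₀
    | 1 => N₁
  have S := inS_fold foldData FG isCartan p h2 (by decide +kernel) N par cls
  obtain ⟨γ, hγ⟩ := IsCyclic.exists_generator (α := Kˣ)
  have he : Fintype.card K - 1 = (q ^ 2 + q + 1) * (q - 1) := by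
    obtain ⟨r, rfl⟩ : ∃ r, q = r + 1 := ⟨q - 1, by omega⟩
    rw [hK, Nat.add_sub_cancel]
    apply Nat.sub_eq_of_eq_add
    ring
  obtain ⟨ω₀, hω₀, hgen₀⟩ := exists_gen_fix hφ hq2 he hγ
  let ω : ∀ i, (kk φ i)ˣ := fun i => match i with
    | 0 => ω₀
    | 1 => γ
  have hω : ∀ i c, c ∈ Subgroup.zpowers (ω i) := fun i => match i with
    | 0 => hgen₀
    | 1 => hγ
  have hfix : φ ((γ : K) ^ (q ^ 2 + q + 1)) = (γ : K) ^ (q ^ 2 + q + 1) := by
    rw [← hω₀]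
    exact (ω₀ : RingHom.eqLocusField φ (RingHom.id K)).2
  have hω3 : ω₀ ^ (q ^ 2 + q + 1) = ω₀ ^ 3 := by
    apply Units.ext
    apply Subtype.ext
    rw [Units.val_pow_eq_pow_val, Units.val_pow_eq_pow_val, SubmonoidClass.coe_pow, SubmonoidClass.coe_pow, hω₀]
    generalize (γ : K) ^ (q ^ 2 + q + 1) = z at hfix
    rw [hφ] at hfix
    rw [pow_add, pow_add, sq, pow_mul, hfix, hfix]
    ring
  -- the four relations
  have self : ∀ i, (N i).res ww * (N i).res (dd (ω i)) * ((N i).res ww)⁻¹ = ((N i).res (dd (ω i)))⁻¹ := by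
    intro i
    rw [← map_inv, ← map_mul, ← map_mul, ← map_inv, ← map_inv]
    congr 1
    rw [mul_inv_eq_iff_eq_mul]
    apply Subtype.ext
    simp [ww_val, dd_val]
  have r01 : (N 0).res ww * (N 1).res (dd (ω 1)) * ((N 0).res ww)⁻¹ = (N 1).res (dd (ω 1)) * (N 0).res (dd (ω 0)) := by
    have h1 := conj_of_act S (i := 0) (S.d 1 (ω 1)) (a := (ω 0)⁻¹) ((N 0).act (N 1) (ω 1) _ (by
      intro s hs
      have hs1 : s = 1 := List.mem_singleton.1 hs
      subst hs1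
      have e1 : ((J 1).map fun b : Fin 4 => ψ 1 b (ω 1) ^ chevD4.cartan b (chevD4.simple (1 : Fin 4))) =
          (J 1).map fun b : Fin 4 => (ψ 1 b (ω 1))⁻¹ :=
        List.map_congr_left fun b hb => by rw [cart1 b hb, _root_.zpow_neg_one]
      rw [e1, Units.val_inv_eq_inv_val, map_inv₀]
      show ((γ : K))⁻¹ * ((φ γ)⁻¹ * ((φ (φ γ))⁻¹ * 1)) =
        (((ω₀ : RingHom.eqLocusField φ (RingHom.id K)) : K))⁻¹
      rw [hω₀, hφ, hφ, ← pow_mul, ← sq, mul_one, ← mul_inv, ← mul_inv]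
      congr 1
      ring))
    rwa [inv_inv] at h1
  have r10 : (N 1).res ww * (N 0).res (dd (ω 0)) * ((N 1).res ww)⁻¹ =
      (N 0).res (dd (ω 0)) * (N 1).res (dd (ω 1)) ^ (q ^ 2 + q + 1) := by
    let δ : Kˣ := γ ^ (q ^ 2 + q + 1)
    have hδ : (δ : K) = (γ : K) ^ (q ^ 2 + q + 1) := Units.val_pow_eq_pow_val _ _
    have h1 := conj_of_act S (i := 1) (S.d 0 (ω 0)) (a := ((ω 1) ^ (q ^ 2 + q + 1))⁻¹) ((N 1).act (N 0) (ω 0) _ (by
      intro s hs
      show ((ω₀ : RingHom.eqLocusField φ (RingHom.id K)) : K) ^ chevD4.cartan (1 : Fin 4) (chevD4.simple s) * 1 =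
        psi3 φ s (Units.val δ⁻¹)
      rw [cart0 s hs, hω₀, mul_one, _root_.zpow_neg_one, Units.val_inv_eq_inv_val, map_inv₀, hδ]
      congr 1
      have hs' : s = 0 ∨ s = 2 ∨ s = 3 := by simpa [Nodes.RGDTwD4.J] using hs
      rcases hs' with rfl | rfl | rfl
      · rfl
      · exact hfix.symm
      · show _ = φ (φ _)
        rw [hfix, hfix]))
    rwa [inv_inv, map_pow, map_pow] at h1
  have hodd : Odd (q ^ 2 + q + 1) := ((hqo.pow.add_odd hqo).add_one)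
  have C : PS.Cor S.inp.rgd isCartan 2 fun i => (N i).res (dd (ω i)) := by
    refine S.cor hω isCartan fun i j => ?_
    have hi : i = 0 ∨ i = 1 := by fin_cases i <;> simp
    have hj : j = 0 ∨ j = 1 := by fin_cases j <;> simp
    rcases hi with rfl | rfl <;> rcases hj with rfl | rfl
    · exact ⟨-2, by rw [self]; group, by decide⟩
    · exact ⟨1, by rw [r01, zpow_one], by decide⟩
    · refine ⟨((q ^ 2 + q + 1 : ℕ) : ℤ), by rw [r10, zpow_natCast], ?_⟩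
      obtain ⟨c, hc⟩ := hodd
      rw [hc]
      refine ⟨c - 1, ?_⟩
      show ((2 * c + 1 : ℕ) : ℤ) + -3 = _
      push_cast
      ring
    · exact ⟨-2, by rw [self]; group, by decide⟩
  refine ⟨hW, A, A, isCartan, isCartan, _, _, _, _, S.inp, C, fun lam hl => C.pow_of_gen (S.tor_gen hω) fun i => ?_⟩
  -- the central involution of `W`
  have hw : ∀ i, rep CoxeterMatrix.G₂.toCoxeterSystem isCartan
      (CoxeterMatrix.G₂.toCoxeterSystem.wordProd (cox 2 3)) (sr i) = -sr i :=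
    neg_of_check _ _ _ (by decide +kernel)
  have h1 : ∀ y, rep CoxeterMatrix.G₂.toCoxeterSystem isCartan
      (CoxeterMatrix.G₂.toCoxeterSystem.wordProd (cox 2 3)) y = -y := fun y =>
    DFunLike.congr_fun (PS.ext_sr' (x := (rep CoxeterMatrix.G₂.toCoxeterSystem isCartan
      (CoxeterMatrix.G₂.toCoxeterSystem.wordProd (cox 2 3))).toAddMonoidHom)
      (y := -AddMonoidHom.id _) hw) y
  have hmem : CoxeterMatrix.G₂.toCoxeterSystem.wordProd (cox 2 3) ∈ PS.Wst S.inp.rgd lam := by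
    refine PS.mem_of_center hl (fun x => ?_) ?_
    · refine rep_injective CoxeterMatrix.G₂.toCoxeterSystem isCartan (LinearMap.ext fun y => ?_)
      rw [rep_mul_apply, rep_mul_apply, h1, h1, map_neg]
    · refine rep_injective CoxeterMatrix.G₂.toCoxeterSystem isCartan (LinearMap.ext fun y => ?_)
      rw [rep_mul_apply, h1, h1, _root_.neg_neg, map_one, Module.End.one_apply]
  have hword : CoxeterMatrix.G₂.toCoxeterSystem.wordProd (cox 2 3) =
      (CoxeterMatrix.G₂.toCoxeterSystem.simple 0 * CoxeterMatrix.G₂.toCoxeterSystem.simple 1) ^ 3 := by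
    have e : cox 2 3 = [0, 1, 0, 1, 0, 1] := by decide
    rw [e]
    simp only [wordProd_cons, wordProd_nil, pow_three, mul_one, mul_assoc]
  have hrp0 := (rp_simple CoxeterMatrix.G₂.toCoxeterSystem S.inp.rgd.nsys 0).mul
    (rp_simple CoxeterMatrix.G₂.toCoxeterSystem S.inp.rgd.nsys 1)
  have hrp : Rp CoxeterMatrix.G₂.toCoxeterSystem S.inp.rgd.nsys
      (CoxeterMatrix.G₂.toCoxeterSystem.wordProd (cox 2 3)) (((N 0).res ww * (N 1).res ww) ^ 3) := by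
    rw [hword, pow_three, pow_three]
    exact hrp0.mul (hrp0.mul hrp0)
  have h5 : (N 0).res (dd (ω 0)) ^ (q ^ 2 + q + 1) = (N 0).res (dd (ω 0)) ^ 3 := by
    rw [← map_pow, ← map_pow, ← map_pow, ← map_pow]
    congr 2
  have hinv := cube_inv (S.inp.comm _ (S.d 0 (ω 0)) _ (S.d 1 (ω 1))) (self 0) r01 r10 (self 1) h5
  have hinv' : ∀ i, ((N 0).res ww * (N 1).res ww) ^ 3 * (N i).res (dd (ω i)) * (((N 0).res ww * (N 1).res ww) ^ 3)⁻¹ =
      ((N i).res (dd (ω i)))⁻¹ := fun i => match i with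
    | 0 => hinv.1
    | 1 => hinv.2
  have hcj := PS.cj_of_mem S.inp.rgd S.inp.comm hmem hrp
  have e : (((N 0).res ww * (N 1).res ww) ^ 3)⁻¹ * ((N i).res (dd (ω i)))⁻¹ * ((N 0).res ww * (N 1).res ww) ^ 3 =
      (N i).res (dd (ω i)) := by
    rw [← hinv' i]
    group
  have h6 := hcj _ (inv_mem (S.d i (ω i))) (by rw [e]; exact S.d i (ω i))
  have h7 : (lam ⟨_, S.d i (ω i)⟩)⁻¹ = lam ⟨_, S.d i (ω i)⟩ := by
    rw [← map_inv]
    refine h6.trans ?_
    congr 1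
    exact Subtype.ext e
  rw [pow_two]
  exact mul_eq_one_iff_eq_inv.2 h7.symm

theorem rowS_d4 (hM : AH.Main) : RowS TwD4O := by
  rintro S _ _ _ ⟨F, _, _, q, hF, hq, hK, ⟨e⟩⟩
  obtain ⟨p, _, hp, hp2, h2⟩ := exists_char F hF
  have hqo : Odd q := by
    rw [hK] at hF
    exact (Nat.odd_pow_iff three_ne_zero).1 hF
  exact oddRat_congr e ((hasCor_twD4 hq hK p h2 hqo).oddRat hM hp hp2)

end Cfsg.Agent.ODD.PX
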