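import Cfsg.Agent.ODD.PX.Chev

/-!
# ODD, odd `q`: folded groups, the datum `InS` with explicit nodes (helper4)

* `in_fold'`: the input `In` of a folded group for the explicit datum;
* `NodeX hp K J σ G i ψ Φ`: the node `i` with `Φ (uu t) = ∏ x_j(ψ j t)`, `Φ (dd c) = ∏ h_j(ψ j c)`;
* `inS_fold`, `NodeX.act`.
-/

set_option autoImplicit false
set_option linter.unusedSectionVars false
set_option maxHeartbeats 400000

namespace Cfsg.Agent.ODD.PX

open Cfsg Matrix Cfsg.Agent.ODD.Cv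
open CoxeterSystem Cfsg.Agent.ChevalleyStructure.CoxeterGeom Cfsg.Agent.Tits.Roots Cfsg.Agent.Nodes.Reps
  Cfsg.Agent.Nodes.BNOf Cfsg.Agent.Nodes.Bruhat Cfsg.Agent.H684.OQ Cfsg.Agent.H310.OQ
open Cfsg.Lie Cfsg.Agent.ChevalleyStructure Cfsg.Agent.ChevalleyStructure.Elts
  Cfsg.Agent.ChevalleyStructure.RootVec Cfsg.Agent.ChevalleyStructure.RootVecTab
  Cfsg.Agent.ChevalleyStructure.CoxeterGeomTypes Cfsg.Agent.Nodes.RGDChev Cfsg.Agent.Nodes.RGDFold
  Cfsg.Agent.ChevalleyStructure.TwistedU Cfsg.Agent.ChevalleyStructure.TwistedFix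

section blk

variable {D : ChevalleyDatum} {l : ℕ} {M' : CoxeterMatrix (Fin l)} (hp : IsType D l M') {K : Type} [Field K]
  {k : Type} [Field k]

/-- the value at `dd c` of the homomorphism of one simple root -/
theorem blk_dd {j : Fin l} {ψ : k →+* K} {Φ : SpecialLinearGroup (Fin 2) k →* GL D.Idx K}
    (hu : ∀ t, Φ (uu t) = xG hp.inList (D.simple j) (ψ t))
    (hl : ∀ t, Φ (ll t) = xG hp.inList (D.neg (D.simple j)) (ψ t)) (c : kˣ) :
    Φ (dd c) = hG hp.inList (D.simple j) (ψ c) := by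
  rw [dd_eq, map_mul, map_mul, map_mul, map_mul, map_mul, hu, hu, hl, hl, hG_def, nG_def, nG_def, inv_neg, inv_one,
    _root_.neg_neg, map_neg, map_neg, map_one, map_inv₀]
  group

/-- the action of a product of `h_j(c_j)` -/
theorem prod_h_act (o : List (Fin l)) (c : Fin l → K) (hc : ∀ j, c j ≠ 0) {s : ℕ} (hs : s < D.nroots) (t : K) :
    (o.map fun j : Fin l => hG hp.inList (D.simple j) (c j)).prod * xG hp.inList s t *
      ((o.map fun j : Fin l => hG hp.inList (D.simple j) (c j)).prod)⁻¹ =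
      xG hp.inList s ((o.map fun j : Fin l => c j ^ D.cartan j s).prod * t) := by
  induction o with
  | nil => simp
  | cons j o ih =>
    rw [List.map_cons, List.prod_cons, List.map_cons, List.prod_cons, mul_assoc (c j ^ _),
      ← BruhatSplit.hG_simple_conj hp.inList (lt_rank hp j) hs (hc j), ← ih]
    group

theorem conj_prod {Y ι : Type*} [Group Y] (z : Y) (o : List ι) (a b : ι → Y) (h : ∀ i ∈ o, z * a i * z⁻¹ = b i) :
    z * (o.map a).prod * z⁻¹ = (o.map b).prod := by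
  induction o with
  | nil => simp
  | cons j o ih =>
    rw [List.map_cons, List.prod_cons, List.map_cons, List.prod_cons, ← h j List.mem_cons_self,
      ← ih fun i hi => h i (List.mem_cons_of_mem _ hi)]
    group

end blk

section fold

variable {m l : ℕ} {D : ChevalleyDatum} {M' : CoxeterMatrix (Fin l)} {hp : IsType D l M'} {K : Type} [Field K]
  {M : CoxeterMatrix (Fin m)} {A : Fin m → Fin m → ℤ} {J : Fin m → List (Fin l)} {L : List (List ℕ)}
  {σ : GL D.Idx K →* GL D.Idx K} {ρ ρ' : ℕ → ℕ} {f : ℕ → K → K} {G : Subgroup (GL D.Idx K)}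

/-- **the input for a folded group**, explicit form -/
theorem in_fold' [Finite K] (FD : FoldData D M A J L) (FG : FoldGrp hp K J L σ ρ ρ' f G) (h : IsCartan M A) (p : ℕ)
    [CharP K p] (h2 : (2 : K) ≠ 0) (hA : ∀ j, ∃ i, ¬ Even (A i j)) (hN : ∀ i, NodeOK hp K J σ G i)
    (hpar : ∀ i, ∀ r < D.nroots, (Even (pairing A i (V D J r)) ↔ Even ((J i).map fun j : Fin l => D.cartan j r).sum))
    (hcls : ∀ r < D.nroots, ∀ s < D.nroots, V D J r = V D J s → s ≠ r → s ≠ D.neg r ∧ D.commTerms r s = []) :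
    In p M.toCoxeterSystem h ((D.diagonalSubgroup K ⊓ G).subgroupOf G) (fun i => (⟨nI hp K (J i), FG.nG i⟩ : ↥G))
      (fun z => (R D hp K J σ z).subgroupOf G) := by
  have hpp : p.Prime := CharP.char_is_prime K p
  have : Fact p.Prime := ⟨hpp⟩
  have hp2 : p ≠ 2 := by
    rintro rfl
    exact h2 (by exact_mod_cast CharP.cast_eq_zero K 2)
  have hW : Finite M.Group := Cfsg.Agent.Nodes.RGDFold.finite_W (hp := hp) M.toCoxeterSystem h FD
  have hroot : ∀ z, IsRoot M.toCoxeterSystem h z ↔ ∃ r < D.nroots, V D J r = z :=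
    fun z => FD.isRoot_iff hp.checked (fun i r hr => wp_lt hp (J i) hr) z
  have hact : ∀ i, ∀ s < D.nroots, ∀ t : K, nI hp K (J i) ^ 2 * xG hp.inList s t * (nI hp K (J i) ^ 2)⁻¹ =
      xG hp.inList s ((-1 : K) ^ ((J i).map fun j : Fin l => D.cartan j s).sum * t) := by
    intro i s hs t
    rw [(hN i).sq.2]
    exact prod_h_conj hp (J i) hs t
  refine in_of_sq (Cfsg.Agent.Nodes.RGDFold.rgd M.toCoxeterSystem h FD FG p) hpp hp2
    (Cfsg.Agent.Nodes.RGDFold.G1_eq_top M.toCoxeterSystem h FD FG p) ?_ ⟨fun i => ?_, fun i x hx he y hy => ?_,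
      fun i x hx he y hy => ?_⟩ hA fun i => (hN i).node FG
  · intro a ha b hb
    exact Subtype.ext (diag_comm hp.inList ha.1 hb.1)
  · exact Subtype.ext (hN i).sq.1
  · obtain ⟨r, hr, rfl⟩ := (hroot x).1 hx
    rw [hpar i r hr] at he
    rw [Subgroup.mem_subgroupOf] at hy
    have h3 : rspan (xG (F := K) hp.inList) {k | k < D.nroots ∧ V D J k = V D J r} ≤
        Subgroup.centralizer {nI hp K (J i) ^ 2} := by
      refine rspan_le _ fun s hs t => ?_
      rw [Subgroup.mem_centralizer_singleton_iff]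
      have h4 : Even ((J i).map fun j : Fin l => D.cartan j s).sum := by
        rw [← hpar i s hs.1, hs.2, hpar i r hr]
        exact he
      have h5 := hact i s hs.1 t
      rw [h4.neg_one_zpow, one_mul, mul_inv_eq_iff_eq_mul] at h5
      exact h5.symm
    have h6 := Subgroup.mem_centralizer_singleton_iff.1 (h3 hy.1)
    exact Subtype.ext h6.symm
  · obtain ⟨r, hr, rfl⟩ := (hroot x).1 hx
    rw [hpar i r hr] at he
    rw [Subgroup.mem_subgroupOf] at hy
    apply Subtype.ext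
    refine conj_rspan (xG (F := K) hp.inList) {k | k < D.nroots ∧ V D J k = V D J r} (nI hp K (J i) ^ 2) ?_ ?_ _ hy.1
    · intro r1 hr1 s1 hs1 t u
      by_cases hrs : s1 = r1
      · subst hrs
        show _ = _
        rw [xG_add, xG_add, add_comm]
      · obtain ⟨h3, h4⟩ := hcls r1 hr1.1 s1 hs1.1 (hr1.2.trans hs1.2.symm) hrs
        exact commute_of_nil hp hr1.1 hs1.1 hrs h3 h4 t u
    · intro s hs t
      have h4 : ¬ Even ((J i).map fun j : Fin l => D.cartan j s).sum := by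
        rw [← hpar i s hs.1, hs.2, hpar i r hr]
        exact he
      rw [Int.not_even_iff_odd] at h4
      rw [hact i s hs.1 t, h4.neg_one_zpow, neg_one_mul, xG_inv]

/-- a node of the folded group, explicit form -/
structure NodeX (hp : IsType D l M') (K : Type) [Field K] (J : Fin m → List (Fin l)) (σ : GL D.Idx K →* GL D.Idx K)
    (G : Subgroup (GL D.Idx K)) (i : Fin m) {k : Type} [Field k] (ψ : Fin l → (k →+* K))
    (Φ : SpecialLinearGroup (Fin 2) k →* GL D.Idx K) : Prop where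
  blk : Blk hp (J i) Φ
  uG : ∀ t, Φ (uu t) ∈ G
  lG : ∀ t, Φ (ll t) ∈ G
  mem : ∀ g, g ∈ R D hp K J σ (sr i) ↔ ∃ t, g = Φ (uu t)
  inj : ∀ t, Φ (uu t) = 1 → t = 0
  u : ∀ t, Φ (uu t) = ((J i).map fun j : Fin l => xG hp.inList (D.simple j) (ψ j t)).prod
  d : ∀ c : kˣ, Φ (dd c) = ((J i).map fun j : Fin l => hG hp.inList (D.simple j) (ψ j c)).prod

theorem NodeX.ok {i : Fin m} {k : Type} [Field k] [Finite k] {ψ : Fin l → (k →+* K)}
    {Φ : SpecialLinearGroup (Fin 2) k →* GL D.Idx K} (N : NodeX hp K J σ G i ψ Φ) : NodeOK hp K J σ G i :=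
  ⟨k, inferInstance, inferInstance, Φ, N.blk, N.uG, N.lG, N.mem, N.inj⟩

theorem NodeX.mem_G {i : Fin m} {k : Type} [Field k] {ψ : Fin l → (k →+* K)}
    {Φ : SpecialLinearGroup (Fin 2) k →* GL D.Idx K} (N : NodeX hp K J σ G i ψ Φ) (g : SpecialLinearGroup (Fin 2) k) :
    Φ g ∈ G := by
  have h1 : G.comap Φ = ⊤ := eq_top_of_uu_ll _ N.uG N.lG
  have h2 : g ∈ G.comap Φ := by rw [h1]; exact Subgroup.mem_top g
  exact h2

/-- the homomorphism into `G` -/
def NodeX.res {i : Fin m} {k : Type} [Field k] {ψ : Fin l → (k →+* K)}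
    {Φ : SpecialLinearGroup (Fin 2) k →* GL D.Idx K} (N : NodeX hp K J σ G i ψ Φ) :
    SpecialLinearGroup (Fin 2) k →* ↥G := Φ.codRestrict G N.mem_G

/-- the action of a coroot on a simple root group -/
theorem NodeX.act {i j : Fin m} {k k' : Type} [Field k] [Field k'] {ψ : Fin l → (k →+* K)} {ψ' : Fin l → (k' →+* K)}
    {Φ : SpecialLinearGroup (Fin 2) k →* GL D.Idx K} {Φ' : SpecialLinearGroup (Fin 2) k' →* GL D.Idx K}
    (N : NodeX hp K J σ G i ψ Φ) (N' : NodeX hp K J σ G j ψ' Φ') (c : k'ˣ) (a : k)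
    (h : ∀ s ∈ J i, ((J j).map fun b : Fin l => ψ' b c ^ D.cartan b (D.simple s)).prod = ψ s a) :
    N'.res (dd c) * N.res (uu 1) * (N'.res (dd c))⁻¹ = N.res (uu a) := by
  apply Subtype.ext
  show Φ' (dd c) * Φ (uu 1) * (Φ' (dd c))⁻¹ = Φ (uu a)
  rw [N.u, N.u]
  refine conj_prod _ _ _ _ fun s hs => ?_
  rw [N'.d, prod_h_act hp (J j) (fun b => ψ' b c) (fun b => (map_ne_zero _).2 c.ne_zero)
    (NPerm.simple_lt hp.inList (lt_rank hp s)), h s hs, map_one, mul_one]

/-- **the datum of a folded group** -/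
theorem inS_fold [Finite K] [Finite M.Group] (FD : FoldData D M A J L) (FG : FoldGrp hp K J L σ ρ ρ' f G)
    (h : IsCartan M A) (p : ℕ) [CharP K p] (h2 : (2 : K) ≠ 0) (hA : ∀ j, ∃ i, ¬ Even (A i j))
    {k : Fin m → Type} [∀ i, Field (k i)] [∀ i, Finite (k i)] {ψ : ∀ i, Fin l → (k i →+* K)}
    {Φ : ∀ i, SpecialLinearGroup (Fin 2) (k i) →* GL D.Idx K} (N : ∀ i, NodeX hp K J σ G i (ψ i) (Φ i))
    (hpar : ∀ i, ∀ r < D.nroots, (Even (pairing A i (V D J r)) ↔ Even ((J i).map fun j : Fin l => D.cartan j r).sum))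
    (hcls : ∀ r < D.nroots, ∀ s < D.nroots, V D J r = V D J s → s ≠ r → s ≠ D.neg r ∧ D.commTerms r s = []) :
    InS p M.toCoxeterSystem h ((D.diagonalSubgroup K ⊓ G).subgroupOf G) (fun z => (R D hp K J σ z).subgroupOf G)
      fun i => (N i).res := by
  have hpp : p.Prime := CharP.char_is_prime K p
  have : Fact p.Prime := ⟨hpp⟩
  have hn : (fun i => (N i).res ww) = fun i => (⟨nI hp K (J i), FG.nG i⟩ : ↥G) :=
    funext fun i => Subtype.ext (N i).blk.w
  refine ⟨?_, Cfsg.Agent.Nodes.RGDFold.G1_eq_top M.toCoxeterSystem h FD FG p, fun i c => ?_, fun i g => ?_,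
    fun i t ht => (N i).inj t (congrArg Subtype.val ht)⟩
  · rw [hn]
    exact in_fold' FD FG h p h2 hA (fun i => (N i).ok) hpar hcls
  · rw [Subgroup.mem_subgroupOf]
    exact ⟨(N i).blk.d c, (N i).mem_G _⟩
  · rw [Subgroup.mem_subgroupOf, (N i).mem]
    refine exists_congr fun t => ?_
    rw [Subtype.ext_iff]
    rfl

end fold

/-- the generator of the multiplicative group of the fixed field of `x ↦ x ^ q` -/
theorem exists_gen_fix {K : Type} [Field K] [Fintype K] {q e : ℕ} {φ : K →+* K} (hφ : ∀ x, φ x = x ^ q) (hq : 2 ≤ q)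
    (hK : Fintype.card K - 1 = e * (q - 1)) {γ : Kˣ} (hγ : ∀ c, c ∈ Subgroup.zpowers γ) :
    ∃ ω : (RingHom.eqLocusField φ (RingHom.id K))ˣ, ((ω : RingHom.eqLocusField φ (RingHom.id K)) : K) = (γ : K) ^ e ∧
      ∀ c, c ∈ Subgroup.zpowers ω := by
  classical
  have hord : orderOf γ = e * (q - 1) := by
    rw [orderOf_eq_card_of_forall_mem_zpowers hγ, Nat.card_eq_fintype_card, Fintype.card_units, hK]
  have hq1 : q = (q - 1) + 1 := by omega
  have h1 : (γ ^ e) ^ (q - 1) = 1 := by rw [← pow_mul, ← hord, pow_orderOf_eq_one]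
  have h2 : φ ((γ : K) ^ e) = (γ : K) ^ e := by
    rw [hφ, ← Units.val_pow_eq_pow_val, ← Units.val_pow_eq_pow_val, hq1, pow_succ, h1, one_mul]
  have h3 : (⟨(γ : K) ^ e, h2⟩ : RingHom.eqLocusField φ (RingHom.id K)) ≠ 0 := fun h =>
    pow_ne_zero e γ.ne_zero (congrArg Subtype.val h)
  refine ⟨Units.mk0 _ h3, rfl, fun c => ?_⟩
  have h4 : ((c : RingHom.eqLocusField φ (RingHom.id K)) : K) ≠ 0 := fun h => c.ne_zero (Subtype.ext h)
  obtain ⟨j, hj⟩ := hγ (Units.mk0 _ h4)
  have hj' : γ ^ j = Units.mk0 _ h4 := hj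
  have h5 : (γ ^ j) ^ (q - 1) = 1 := by
    have h6 : φ ((c : RingHom.eqLocusField φ (RingHom.id K)) : K) = _ := (c : RingHom.eqLocusField φ (RingHom.id K)).2
    rw [hφ, hq1, pow_succ] at h6
    apply Units.ext
    rw [hj', Units.val_pow_eq_pow_val, Units.val_mk0, Units.val_one]
    exact mul_right_cancel₀ h4 (h6.trans (one_mul _).symm)
  rw [← zpow_natCast, ← _root_.zpow_mul, ← orderOf_dvd_iff_zpow_eq_one, hord, Nat.cast_mul] at h5
  obtain ⟨i, hi⟩ := Int.dvd_of_mul_dvd_mul_right (by omega) h5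
  refine ⟨i, Units.ext (Subtype.ext ?_)⟩
  have h7 := congrArg Units.val hj'
  rw [hi, Units.val_mk0, Units.val_zpow_eq_zpow_val, _root_.zpow_mul, zpow_natCast] at h7
  rw [← h7]
  show (((Units.mk0 _ h3 ^ i : (RingHom.eqLocusField φ (RingHom.id K))ˣ) : RingHom.eqLocusField φ (RingHom.id K)) : K) = _
  rw [Units.val_zpow_eq_zpow_val, Units.val_mk0]
  exact map_zpow₀ (RingHom.eqLocusField φ (RingHom.id K)).subtype _ i

end Cfsg.Agent.ODD.PX
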